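import Cfsg.Agent.Chevalley.Order
import Cfsg.Agent.Chevalley.Data.SysD4

/-! Minimal coset representatives, the length generating function and the torus of type D4. -/

set_option autoImplicit false
set_option maxHeartbeats 1000000

namespace CfsgLib.Chevalley

/-- Representatives, step 0. -/
def levD40 : Level where
  sub := []
  top := [0]
  reps := [0x17161514131211100f0e0d0c0b0a09080706050403020100, 0x1711100f0e05161514130d0c0b0a04030201120908070600]
  parent := [(0, 0), (0, 0)]
  nxt := [[1], [0]]
  lens := [0, 1]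

theorem chkLevD40 : chkLevel Cfsg.Lie.chevD4 tabD4 levD40 = true := by decide +kernel

/-- Representatives, step 1. -/
def levD41 : Level where
  sub := [0]
  top := [0, 1]
  reps := [0x17161514131211100f0e0d0c0b0a09080706050403020100, 0x161715141213110d0c09100f08070e0b0a06040503020001, 0x1117100f050e160d0c0415140302130b0a01091208070006]
  parent := [(0, 0), (1, 0), (0, 1)]
  nxt := [[999, 1], [2, 0], [1, 999]]
  lens := [0, 1, 2]

theorem chkLevD41 : chkLevel Cfsg.Lie.chevD4 tabD4 levD41 = true := by decide +kernel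

/-- Representatives, step 2. -/
def levD42 : Level where
  sub := [0, 1]
  top := [0, 1, 2]
  reps := [0x17161514131211100f0e0d0c0b0a09080706050403020100, 0x1714131615120f0e11100a0c0b0d07060908050201040300, 0x1614121715130c09110d070f08100a060e0b040200050301, 0x110f0517100e0c04160d021403150a01130b090700120806]
  parent := [(0, 0), (2, 0), (1, 1), (0, 2)]
  nxt := [[999, 999, 1], [999, 2, 0], [3, 1, 999], [2, 999, 999]]
  lens := [0, 1, 2, 3]

theorem chkLevD42 : chkLevel Cfsg.Lie.chevD4 tabD4 levD42 = true := by decide +kernel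

/-- Representatives, step 3. -/
def levD43 : Level where
  sub := [0, 1, 2]
  top := [0, 1, 2, 3]
  reps := [0x17161514131211100f0e0d0c0b0a09080706050403020100, 0x17151613141210110e0f0d0b0c0a08090607050304010200, 0x1615171214130d11090c10080f070b0e060a040305000201, 0x111017050f0e0d16040c150314020b13010a090812000706, 0x1413171216150a0f070c0e0611090b10080d020105000403, 0xf0e170511100a14020c130116040b15030d070612000908, 0xc091604110d0714020f12001705081503100a0613010e0b, 0xb081503100d0613010e12001705091604110a0714020f0c]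
  parent := [(0, 0), (3, 0), (1, 1), (0, 2), (2, 2), (2, 3), (1, 5), (3, 6)]
  nxt := [[999, 999, 999, 1], [999, 2, 999, 0], [3, 1, 4, 999], [2, 999, 5, 999], [5, 999, 2, 999], [4, 6, 3, 999], [999, 5, 999, 7], [999, 999, 999, 6]]
  lens := [0, 1, 2, 3, 3, 4, 5, 6]

theorem chkLevD43 : chkLevel Cfsg.Lie.chevD4 tabD4 levD43 = true := by decide +kernel

/-- The length generating function of type D4. -/
theorem lenSumD4 (F : Type*) [Field F] (q : ℤ) :
    sysD4.lenSum (List.range 4) q = ((levD43.lens.map fun e => q ^ e).sum) * ((levD42.lens.map fun e => q ^ e).sum) * ((levD41.lens.map fun e => q ^ e).sum) * ((levD40.lens.map fun e => q ^ e).sum) := by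
  have hw : ∀ i < Cfsg.Lie.chevD4.rank, ∀ s < Cfsg.Lie.chevD4.nroots,
      Cfsg.Lie.chevD4.reflectRoot i s = tabD4.wF i s :=
    fun i hi s hs => reflectRoot_wF (checkedD4.cW i hi) hs
  rw [show List.range 4 = levD43.top from rfl, sysD4.lenSum_level F hw chkLevD43,
    show levD43.sub = List.range 3 from rfl]
  rw [show List.range 3 = levD42.top from rfl, sysD4.lenSum_level F hw chkLevD42,
    show levD42.sub = List.range 2 from rfl]
  rw [show List.range 2 = levD41.top from rfl, sysD4.lenSum_level F hw chkLevD41,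
    show levD41.sub = List.range 1 from rfl]
  rw [show List.range 1 = levD40.top from rfl, sysD4.lenSum_level F hw chkLevD40,
    show levD40.sub = List.range 0 from rfl]
  rw [show List.range 0 = [] from rfl, Sys.lenSum_nil]
  ring

/-- The order of the diagonal subgroup of type D4. -/
theorem natCardDiagonalD4 (F : Type*) [Field F] [Fintype F] :
    (Fintype.card F - 1).gcd 2 * (Fintype.card F - 1).gcd 2 *
      Nat.card (Cfsg.Lie.chevD4.diagonalSubgroup F) = (Fintype.card F - 1) ^ 4 := by
  have h := sysD4.natCard_diagonal F (P := !![-1, 0, 0, 0; -2, -1, 0, 0; -3, -2, -1, 0; 2, 2, 1, 1]) (P' := !![-1, 0, 0, 0; 2, -1, 0, 0; -1, 2, -1, 0; -1, 0, 1, 1])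
    (Q := !![0, 0, 0, 1; 1, 0, 0, 2; 0, 1, -1, 1; 0, 0, 1, 2]) (Q' := !![-2, 1, 0, 0; -3, 0, 1, 1; -2, 0, 0, 1; 1, 0, 0, 0]) (d := ![1, 1, 2, 2])
    (by decide +kernel) (by decide +kernel) (by decide +kernel) (by decide +kernel)
  rw [Nat.card_units, Nat.card_eq_fintype_card] at h
  refine Eq.trans ?_ h
  congr 1
  show _ = ∏ k : Fin 4, (Fintype.card F - 1).gcd ((![1, 1, 2, 2] : Fin 4 → ℕ) k)
  simp [Fin.prod_univ_succ]

end CfsgLib.Chevalley
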